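import Cfsg.Agent.Lib.Comp.Co2z.Base

set_option maxRecDepth 100000
set_option Elab.async false

namespace Cfsg.Lib.Comp.Co2z

universe u

noncomputable def MubH0_3_R : List (List ℕ × ℕ) := [([1],2),
 ([1,2],0)]

noncomputable def MubH0_3_n_1 : Net :=
 (Net.cons 1 (nat_lit 0x2)
 (Net.cons 1 (nat_lit 0x1)
 Net.nil))

noncomputable def MubH0_3_n : List Net := [Net.nil,
 MubH0_3_n_1,
 Net.rev MubH0_3_n_1]

theorem MubH0_3_n_ok : NetsOK 3 MubH0_3_n := netsOK_of (by decide +kernel)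

theorem MubH0_3_n_rel : Rels (gp MubH0_3_n) MubH0_3_R := rels_of_relsB (k := 2) MubH0_3_n_ok (by norm_num) (by decide +kernel)

theorem MubH0_3_fin : finB 3 MubH0_3_n [1,2] 3 (runH 3 MubH0_3_n (fun x p => ptInv (nth Net.nil MubH0_3_n x) p) iv MubH0_3_R [] ([].map fun x => [x]) 0 []
  [4,0,4]
  (defsH 3 MubH0_3_n (ones 39) [1,2] (Nat.shiftLeft 1 0) 0)) = true := by decide +kernel

theorem MubH0_3_idx : Idx.{u} iv (MubH0_3_R ++ []) ([].map fun x => [x]) [1,2] 3 :=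
  Reach.idx MubH0_3_n_ok (reach_runH MubH0_3_n_ok (fun x p _ => ptInv_gp MubH0_3_n_ok x p) MubH0_3_n_rel (reach_defsH MubH0_3_n_ok _ _ _ _ _ _) _ _) MubH0_3_fin (by norm_num)

end Cfsg.Lib.Comp.Co2z
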