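import Cfsg.Agent.Lib.Comp.Co2z.Base

set_option maxRecDepth 100000
set_option Elab.async false

namespace Cfsg.Lib.Comp.Co2z

universe u

noncomputable def MubH1_1_R : List (List ℕ × ℕ) := [([3],1),
 ([4],1),
 ([1],2),
 ([3,4],1),
 ([1,3],2),
 ([1,4],2),
 ([1,4,2,3],1),
 ([5],1),
 ([1,5],1),
 ([4,5],2),
 ([3,5],4),
 ([1,5,4,3],2),
 ([6],1),
 ([3,6],1),
 ([1,6],2),
 ([5,6],2),
 ([4,6],3),
 ([1,3,5,6,1,4,5,3,1,4,1,5,6,5,3,4],0),
 ([1,2],0)]

noncomputable def MubH1_1_n_1 : Net :=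
 (Net.cons 12 (nat_lit 0xf80)
 (Net.cons 6 (nat_lit 0x1a030)
 (Net.cons 3 (nat_lit 0x82186)
 (Net.cons 1 (nat_lit 0x201040)
 (Net.cons 1 (nat_lit 0x92090)
 (Net.cons 1 (nat_lit 0x9008)
 (Net.cons 3 (nat_lit 0x185186)
 (Net.cons 6 (nat_lit 0x11030)
 (Net.cons 12 (nat_lit 0xf80)
 Net.nil)))))))))

noncomputable def MubH1_1_n_3 : Net :=
 (Net.cons 12 (nat_lit 0x500)
 (Net.cons 6 (nat_lit 0x8018)
 (Net.cons 3 (nat_lit 0x106100)
 (Net.cons 1 (nat_lit 0x241048)
 (Net.cons 1 (nat_lit 0x412090)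
 (Net.cons 1 (nat_lit 0x201048)
 (Net.cons 3 (nat_lit 0x106180)
 (Net.cons 6 (nat_lit 0x18018)
 (Net.cons 12 (nat_lit 0x500)
 Net.nil)))))))))

noncomputable def MubH1_1_n_4 : Net :=
 (Net.cons 12 (nat_lit 0xa4a)
 (Net.cons 6 (nat_lit 0x14012)
 (Net.cons 3 (nat_lit 0x106)
 (Net.cons 1 (nat_lit 0x200048)
 (Net.cons 1 (nat_lit 0x80402)
 (Net.cons 3 (nat_lit 0x106)
 (Net.cons 6 (nat_lit 0x35012)
 (Net.cons 12 (nat_lit 0xa4a)
 Net.nil))))))))

noncomputable def MubH1_1_n_5 : Net :=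
 (Net.cons 12 (nat_lit 0xb80)
 (Net.cons 6 (nat_lit 0x20008)
 (Net.cons 3 (nat_lit 0x186000)
 (Net.cons 1 (nat_lit 0x248000)
 (Net.cons 1 (nat_lit 0x82080)
 (Net.cons 1 (nat_lit 0x40000)
 (Net.cons 3 (nat_lit 0x186046)
 (Net.cons 6 (nat_lit 0x2a008)
 (Net.cons 12 (nat_lit 0xb80)
 Net.nil)))))))))

noncomputable def MubH1_1_n_6 : Net :=
 (Net.cons 12 (nat_lit 0xb60)
 (Net.cons 6 (nat_lit 0x20)
 (Net.cons 3 (nat_lit 0x100104)
 (Net.cons 1 (nat_lit 0x249049)
 (Net.cons 1 (nat_lit 0x410090)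
 (Net.cons 1 (nat_lit 0x208048)
 (Net.cons 3 (nat_lit 0x4104)
 (Net.cons 6 (nat_lit 0x2f020)
 (Net.cons 12 (nat_lit 0xb60)
 Net.nil)))))))))

noncomputable def MubH1_1_n : List Net := [Net.nil,
 MubH1_1_n_1,
 Net.rev MubH1_1_n_1,
 MubH1_1_n_3,
 MubH1_1_n_4,
 MubH1_1_n_5,
 MubH1_1_n_6]

theorem MubH1_1_n_ok : NetsOK 24 MubH1_1_n := netsOK_of (by decide +kernel)

theorem MubH1_1_n_rel : Rels (gp MubH1_1_n) MubH1_1_R := rels_of_relsB (k := 5) MubH1_1_n_ok (by norm_num) (by decide +kernel)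

noncomputable def MubH1_1_b0h : ℕ := (nat_lit 0x3000003000003000000000300001a000500000b000023000400000100000100040000030000030000000018000001000000000300001b000300002300001d000400001c000023000100000b0000230002000008000023000200001b000018000500001d00001d00040000020000020000000002000019000200001c00001d000400000500001d000300000500001c000400000300001b000300000300001a00040000020000190004000001000018)

noncomputable def MubH1_1_b0c : List ℕ := [(nat_lit 0x900005300030200000b00000a00000600004d00003900002500003b00004f00000600000a004c0a00003700001300000400000a00004b00000600000400000a00001500003b000033005c0b00000100004100060200000d00003f00070200000200003d00002900ca0300000f00000a00000600000400000800000400000a00000c00000a00001100003500003300000600000a00000c000004009c10000017000011000035000e0300002f00000800000200001500001b00220500002f000002000a0200000000000300000400002100000400000d00240500001700000a00002100000a00001500440500000500001f00070200000700000a00001100001900001700000400000a00000c00000a00000600000800000400000600000a00000c000004009c10000017000002000006000004000008000002000011002c07000000000000000000000000000000000000000016)]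

theorem MubH1_1_fin : finB 24 MubH1_1_n [1,2,3,4,5,6] 21 (runH 24 MubH1_1_n (tbk 5 4 prs5 MubH1_1_n 32) iv MubH1_1_R [] ([1,2,3,4,5].map fun x => [x]) 0 [(fun t => look MubH1_1_b0h 64 t, MubH1_1_b0c)]
  [1,5,9,13,17,0,4,12,28,32,48,52,60,72,8,32,52,56,60,72,8,28,32,48,56,72,52,68,16,20,72,2,16,20,36,44,28,68,4,8,16,24,32,40,44,56,60,72,8,12,32,36,40,72,68]
  (defsH 24 MubH1_1_n (ones 312) [6,1,2,5,6,1,3,4,5] (Nat.shiftLeft 1 0) 0)) = true := by decide +kernel

theorem MubH1_1_idx : Idx.{u} iv (MubH1_1_R ++ []) ([1,2,3,4,5].map fun x => [x]) [1,2,3,4,5,6] 21 :=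
  Reach.idx MubH1_1_n_ok (reach_runH MubH1_1_n_ok (tbk_eq tr5 (by norm_num) (by norm_num) (by norm_num) MubH1_1_n_ok) MubH1_1_n_rel (reach_defsH MubH1_1_n_ok _ _ _ _ _ _) _ _) MubH1_1_fin (by norm_num)

end Cfsg.Lib.Comp.Co2z
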