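import Cfsg.Agent.Lib.Comp.Co2z.MubH0_0
import Cfsg.Agent.Lib.Comp.Co2z.MubH0_1
import Cfsg.Agent.Lib.Comp.Co2z.MubH0_2
import Cfsg.Agent.Lib.Comp.Co2z.MubH0_3
import Cfsg.Agent.Lib.Comp.Co2z.MubH1_0
import Cfsg.Agent.Lib.Comp.Co2z.MubH1_1
import Cfsg.Agent.Lib.Comp.Co2z.MubH1_2
import Cfsg.Agent.Lib.Comp.Co2z.MubH1_3
import Cfsg.Agent.Lib.Comp.Co2z.MubH1_4
import Cfsg.Agent.Lib.Comp.Co2z.MubH1_5
import Cfsg.Agent.Lib.Comp.Co2z.Mub0
import Cfsg.Agent.Lib.Comp.Co2z.Main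
import Cfsg.Agent.Lib.Comp.Cover

set_option maxRecDepth 100000
set_option Elab.async false

namespace Cfsg.Lib.Comp.Co2z

universe u

theorem MubH0_3_ord : Ord.{u} iv MubH0_3_R [1,2] 3 :=
  (MubH0_3_idx.ord_base).of_cons (cons_of_subset (by decide +kernel))

theorem MubH0_2_ord : Ord.{u} iv MubH0_2_R [1,2,3] 12 :=
  (MubH0_2_idx.ord_step MubH0_3_ord).of_cons (cons_of_subset (by decide +kernel))

theorem MubH0_1_ord : Ord.{u} iv MubH0_1_R [1,2,3,4] 48 :=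
  (MubH0_1_idx.ord_step MubH0_2_ord).of_cons (cons_of_subset (by decide +kernel))

theorem MubH0_0_ord : Ord.{u} iv MubH0_0_R [1,2,3,4,8] 384 :=
  (MubH0_0_idx.ord_step MubH0_1_ord).of_cons (cons_of_subset (by decide +kernel))

noncomputable def MubH0_lb_n_1 : Net :=
 (Net.cons 12 (nat_lit 0xe00)
 (Net.cons 6 (nat_lit 0x3803c)
 (Net.cons 3 (nat_lit 0x106)
 (Net.cons 1 (nat_lit 0x241200)
 (Net.cons 1 (nat_lit 0x492402)
 (Net.cons 1 (nat_lit 0x8201)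
 (Net.cons 3 (nat_lit 0x1c1081)
 (Net.cons 6 (nat_lit 0x3020)
 (Net.cons 12 (nat_lit 0xffd)
 Net.nil)))))))))

noncomputable def MubH0_lb_n_3 : Net :=
 (Net.cons 6 (nat_lit 0x38)
 (Net.cons 3 (nat_lit 0x2180)
 (Net.cons 1 (nat_lit 0x248040)
 (Net.cons 1 (nat_lit 0x12492)
 (Net.cons 1 (nat_lit 0x1200)
 (Net.cons 3 (nat_lit 0x1c5041)
 (Net.cons 6 (nat_lit 0x38)
 Net.nil)))))))

noncomputable def MubH0_lb_n_4 : Net :=
 (Net.cons 6 (nat_lit 0x20)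
 (Net.cons 3 (nat_lit 0x2)
 (Net.cons 1 (nat_lit 0x240048)
 (Net.cons 1 (nat_lit 0x10002)
 (Net.cons 3 (nat_lit 0x1c0102)
 (Net.cons 6 (nat_lit 0x20)
 Net.nil))))))

noncomputable def MubH0_lb_n_8 : Net :=
 (Net.cons 6 (nat_lit 0x1000a)
 (Net.cons 3 (nat_lit 0x104100)
 (Net.cons 1 (nat_lit 0x201248)
 (Net.cons 1 (nat_lit 0x492492)
 (Net.cons 1 (nat_lit 0x48049)
 (Net.cons 3 (nat_lit 0xc31c3)
 (Net.cons 6 (nat_lit 0x10035)
 Net.nil)))))))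

noncomputable def MubH0_lb_n_64 : Net :=
 (Net.cons 6 (nat_lit 0x20014)
 (Net.cons 1 (nat_lit 0x48)
 (Net.cons 1 (nat_lit 0x10092)
 (Net.cons 1 (nat_lit 0x48)
 (Net.cons 3 (nat_lit 0x1c0080)
 (Net.cons 6 (nat_lit 0x20014)
 Net.nil))))))

noncomputable def MubH0_lb_n_65 : Net :=
 (Net.cons 6 (nat_lit 0x30020)
 (Net.cons 3 (nat_lit 0x184)
 (Net.cons 1 (nat_lit 0x240048)
 (Net.cons 1 (nat_lit 0x490490)
 (Net.cons 1 (nat_lit 0x240048)
 (Net.cons 3 (nat_lit 0x80186)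
 (Net.cons 6 (nat_lit 0x30020)
 Net.nil)))))))

noncomputable def MubH0_lb_n : List Net := (apd [Net.nil,
 MubH0_lb_n_1,
 Net.rev MubH0_lb_n_1,
 MubH0_lb_n_3,
 MubH0_lb_n_4,
 Net.nil,
 Net.nil,
 Net.nil,
 MubH0_lb_n_8,
 Net.nil,
 Net.nil,
 Net.nil,
 Net.nil,
 Net.nil,
 Net.nil,
 Net.nil,
 Net.nil,
 Net.nil,
 Net.nil,
 Net.nil,
 Net.nil,
 Net.nil,
 Net.nil,
 Net.nil,
 Net.nil,
 Net.nil,
 Net.nil,
 Net.nil,
 Net.nil,
 Net.nil,
 Net.nil,
 Net.nil,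
 Net.nil,
 Net.nil,
 Net.nil,
 Net.nil,
 Net.nil,
 Net.nil,
 Net.nil,
 Net.nil]
 [Net.nil,
 Net.nil,
 Net.nil,
 Net.nil,
 Net.nil,
 Net.nil,
 Net.nil,
 Net.nil,
 Net.nil,
 Net.nil,
 Net.nil,
 Net.nil,
 Net.nil,
 Net.nil,
 Net.nil,
 Net.nil,
 Net.nil,
 Net.nil,
 Net.nil,
 Net.nil,
 Net.nil,
 Net.nil,
 Net.nil,
 Net.nil,
 MubH0_lb_n_64,
 MubH0_lb_n_65])

theorem MubH0_lb_n_ok : NetsOK 24 MubH0_lb_n := netsOK_of (by decide +kernel)

theorem MubH0_lb : 192 ≤ Nat.card (cl (gp nets) [1,2,3,4,8]) :=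
  lb_of_itwB (k := 5) (n := 24) nets_ok MubH0_lb_n_ok (by norm_num) (by norm_num) (tbA_pt nets_ok) (tbA_pt MubH0_lb_n_ok) (φ := look2 (nat_lit 0x75c0079200816007320064f005a5006280062300841007a000750006430077e0060900658008170085e0085000671005d2007ae00599005a600583) 20 64) (by decide +kernel) (by
    rw [← cl_eq_of_slpB (k := 5) (D := [(64,[3,1,8,2]),
 (65,[2,4,3,1])]) MubH0_lb_n_ok (by norm_num) (by decide +kernel)]
    exact lb_of_chainB MubH0_lb_n_ok (C := [([4,64,65],[1,3,8,1,3,1],0,0,24),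
 ([],[4,64,65],1,1,8)]) (by decide +kernel))

theorem MubH1_5_ord : Ord.{u} iv MubH1_5_R [1,2] 3 :=
  (MubH1_5_idx.ord_base).of_cons (cons_of_subset (by decide +kernel))

theorem MubH1_4_ord : Ord.{u} iv MubH1_4_R [1,2,4] 12 :=
  (MubH1_4_idx.ord_step MubH1_5_ord).of_cons (cons_of_subset (by decide +kernel))

theorem MubH1_3_ord : Ord.{u} iv MubH1_3_R [1,2,4,5] 60 :=
  (MubH1_3_idx.ord_step MubH1_4_ord).of_cons (cons_of_subset (by decide +kernel))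

theorem MubH1_2_ord : Ord.{u} iv MubH1_2_R [1,2,3,4,5] 960 :=
  (MubH1_2_idx.ord_step MubH1_3_ord).of_cons (cons_of_subset (by decide +kernel))

theorem MubH1_1_ord : Ord.{u} iv MubH1_1_R [1,2,3,4,5,6] 20160 :=
  (MubH1_1_idx.ord_step MubH1_2_ord).of_cons (cons_of_subset (by decide +kernel))

theorem MubH1_0_ord : Ord.{u} iv MubH1_0_R [1,2,3,4,5,6,8,10,11] 20643840 :=
  (MubH1_0_idx.ord_step MubH1_1_ord).of_cons (cons_of_subset (by decide +kernel))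

noncomputable def MubH1_lb_n_1 : Net :=
 (Net.cons 24 (nat_lit 0x3fedf0)
 (Net.cons 12 (nat_lit 0xe000001e0)
 (Net.cons 6 (nat_lit 0x803001c020)
 (Net.cons 3 (nat_lit 0x180080106000)
 (Net.cons 1 (nat_lit 0x249200001200)
 (Net.cons 1 (nat_lit 0x90080412412)
 (Net.cons 1 (nat_lit 0x48000201009)
 (Net.cons 3 (nat_lit 0x71401c2000)
 (Net.cons 6 (nat_lit 0x23030018020)
 (Net.cons 12 (nat_lit 0xc100001e0)
 (Net.cons 24 (nat_lit 0x3fbc10)
 Net.nil)))))))))))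

noncomputable def MubH1_lb_n_3 : Net :=
 (Net.cons 24 (nat_lit 0xa3000)
 (Net.cons 12 (nat_lit 0x870000390)
 (Net.cons 6 (nat_lit 0x8010000000)
 (Net.cons 3 (nat_lit 0x102000000080)
 (Net.cons 1 (nat_lit 0x1000000200)
 (Net.cons 1 (nat_lit 0x90010010480)
 (Net.cons 1 (nat_lit 0x200)
 (Net.cons 3 (nat_lit 0x142080180083)
 (Net.cons 6 (nat_lit 0x8010009000)
 (Net.cons 12 (nat_lit 0x870000394)
 (Net.cons 24 (nat_lit 0xa3000)
 Net.nil)))))))))))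

noncomputable def MubH1_lb_n_4 : Net :=
 (Net.cons 24 (nat_lit 0xcd8620)
 (Net.cons 12 (nat_lit 0x604000182)
 (Net.cons 6 (nat_lit 0xc018010)
 (Net.cons 3 (nat_lit 0x100000080000)
 (Net.cons 1 (nat_lit 0x200201000)
 (Net.cons 1 (nat_lit 0x82480080000)
 (Net.cons 1 (nat_lit 0x40000000)
 (Net.cons 3 (nat_lit 0x1001c4080042)
 (Net.cons 6 (nat_lit 0x900c018010)
 (Net.cons 12 (nat_lit 0xe940001a6)
 (Net.cons 24 (nat_lit 0xcd8620)
 Net.nil)))))))))))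

noncomputable def MubH1_lb_n_5 : Net :=
 (Net.cons 24 (nat_lit 0xcffc00)
 (Net.cons 12 (nat_lit 0x258)
 (Net.cons 6 (nat_lit 0x30020018)
 (Net.cons 3 (nat_lit 0x184084002080)
 (Net.cons 1 (nat_lit 0x41200208201)
 (Net.cons 1 (nat_lit 0x82482402082)
 (Net.cons 1 (nat_lit 0x1201200001)
 (Net.cons 3 (nat_lit 0x106086002080)
 (Net.cons 6 (nat_lit 0x33030021038)
 (Net.cons 12 (nat_lit 0xc03000258)
 (Net.cons 24 (nat_lit 0xcffc00)
 Net.nil)))))))))))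

noncomputable def MubH1_lb_n_6 : Net :=
 (Net.cons 24 (nat_lit 0xa03200)
 (Net.cons 12 (nat_lit 0x6000004a8)
 (Net.cons 6 (nat_lit 0x3203800e022)
 (Net.cons 3 (nat_lit 0x80180006)
 (Net.cons 1 (nat_lit 0x200048241001)
 (Net.cons 1 (nat_lit 0x410410402012)
 (Net.cons 1 (nat_lit 0x200008201008)
 (Net.cons 3 (nat_lit 0x81080182181)
 (Net.cons 6 (nat_lit 0x3203800e022)
 (Net.cons 12 (nat_lit 0x6000004a8)
 (Net.cons 24 (nat_lit 0xa03200)
 Net.nil)))))))))))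

noncomputable def MubH1_lb_n_8 : Net :=
 (Net.cons 24 (nat_lit 0xe3b010)
 (Net.cons 12 (nat_lit 0xa400009c0)
 (Net.cons 6 (nat_lit 0x8010018002)
 (Net.cons 3 (nat_lit 0x82100080004)
 (Net.cons 1 (nat_lit 0x241200201249)
 (Net.cons 1 (nat_lit 0x410090082090)
 (Net.cons 1 (nat_lit 0x200000001048)
 (Net.cons 3 (nat_lit 0x821000800c7)
 (Net.cons 6 (nat_lit 0x801003801d)
 (Net.cons 12 (nat_lit 0xa400009c0)
 (Net.cons 24 (nat_lit 0xe3b010)
 Net.nil)))))))))))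

noncomputable def MubH1_lb_n_10 : Net :=
 (Net.cons 24 (nat_lit 0xc00000)
 (Net.cons 12 (nat_lit 0xc00000c00)
 (Net.cons 6 (nat_lit 0x20000030038)
 (Net.cons 3 (nat_lit 0x180000)
 (Net.cons 1 (nat_lit 0x9000249240)
 (Net.cons 1 (nat_lit 0x12492082480)
 (Net.cons 1 (nat_lit 0x249041000)
 (Net.cons 3 (nat_lit 0x31860060c0)
 (Net.cons 6 (nat_lit 0x2003c030038)
 (Net.cons 12 (nat_lit 0xc00000c00)
 (Net.cons 24 (nat_lit 0xc00000)
 Net.nil)))))))))))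

noncomputable def MubH1_lb_n_64 : Net :=
 (Net.cons 24 (nat_lit 0xdb14aa)
 (Net.cons 12 (nat_lit 0xe980006f4)
 (Net.cons 6 (nat_lit 0x20028020010)
 (Net.cons 3 (nat_lit 0x80000004186)
 (Net.cons 1 (nat_lit 0x201040249000)
 (Net.cons 1 (nat_lit 0x492492410090)
 (Net.cons 1 (nat_lit 0x200201008048)
 (Net.cons 3 (nat_lit 0x30c40470c6)
 (Net.cons 6 (nat_lit 0x402e03901c)
 (Net.cons 12 (nat_lit 0x6060004e4)
 (Net.cons 24 (nat_lit 0xda548a)
 Net.nil)))))))))))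

noncomputable def MubH1_lb_n_66 : Net :=
 (Net.cons 24 (nat_lit 0xa0052)
 (Net.cons 12 (nat_lit 0x890000db6)
 (Net.cons 6 (nat_lit 0x30002004008)
 (Net.cons 3 (nat_lit 0x6004002000)
 (Net.cons 1 (nat_lit 0x1001208208)
 (Net.cons 1 (nat_lit 0x412002092002)
 (Net.cons 1 (nat_lit 0x1000040000)
 (Net.cons 3 (nat_lit 0x6004103102)
 (Net.cons 6 (nat_lit 0x3000f02d010)
 (Net.cons 12 (nat_lit 0x810000bf2)
 (Net.cons 24 (nat_lit 0xa00b2)
 Net.nil)))))))))))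

noncomputable def MubH1_lb_n_68 : Net :=
 (Net.cons 24 (nat_lit 0xcd60)
 (Net.cons 12 (nat_lit 0x60000d30)
 (Net.cons 6 (nat_lit 0x8034030004)
 (Net.cons 3 (nat_lit 0x4)
 (Net.cons 1 (nat_lit 0x208241008)
 (Net.cons 1 (nat_lit 0x92000090)
 (Net.cons 1 (nat_lit 0x1000008)
 (Net.cons 3 (nat_lit 0x44007100044)
 (Net.cons 6 (nat_lit 0x8034033034)
 (Net.cons 12 (nat_lit 0x60000d30)
 (Net.cons 24 (nat_lit 0xcde4)
 Net.nil)))))))))))

noncomputable def MubH1_lb_n_69 : Net :=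
 (Net.cons 24 (nat_lit 0x8dc0)
 (Net.cons 12 (nat_lit 0x2000005b8)
 (Net.cons 6 (nat_lit 0x20000008)
 (Net.cons 3 (nat_lit 0x104100180)
 (Net.cons 1 (nat_lit 0x48000048)
 (Net.cons 1 (nat_lit 0x412080400)
 (Net.cons 1 (nat_lit 0x1000000)
 (Net.cons 3 (nat_lit 0x181143184)
 (Net.cons 6 (nat_lit 0x8037004008)
 (Net.cons 12 (nat_lit 0x2000005b8)
 (Net.cons 24 (nat_lit 0x8de0)
 Net.nil)))))))))))

noncomputable def MubH1_lb_n_70 : Net :=
 (Net.cons 6 (nat_lit 0x38)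
 (Net.cons 3 (nat_lit 0x186100)
 (Net.cons 1 (nat_lit 0x1208240)
 (Net.cons 1 (nat_lit 0x492090)
 (Net.cons 1 (nat_lit 0x208040)
 (Net.cons 3 (nat_lit 0x186100)
 (Net.cons 6 (nat_lit 0x38)
 Net.nil)))))))

noncomputable def MubH1_lb_n_71 : Net :=
 (Net.cons 24 (nat_lit 0xc00000)
 (Net.cons 12 (nat_lit 0xc00000c00)
 (Net.cons 6 (nat_lit 0x20000030038)
 (Net.cons 3 (nat_lit 0x6186184180)
 (Net.cons 1 (nat_lit 0x8249048200)
 (Net.cons 1 (nat_lit 0x2082402080)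
 (Net.cons 1 (nat_lit 0x41000000)
 (Net.cons 3 (nat_lit 0x30000c10c0)
 (Net.cons 6 (nat_lit 0x20033030038)
 (Net.cons 12 (nat_lit 0xc00000c00)
 (Net.cons 24 (nat_lit 0xc00000)
 Net.nil)))))))))))

noncomputable def MubH1_lb_n_73 : Net :=
 (Net.cons 3 (nat_lit 0x2102000)
 (Net.cons 1 (nat_lit 0x48208000)
 (Net.cons 1 (nat_lit 0x12412000)
 (Net.cons 1 (nat_lit 0x1201000)
 (Net.cons 3 (nat_lit 0x5105000)
 Net.nil)))))

noncomputable def MubH1_lb_n_74 : Net :=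
 (Net.cons 12 (nat_lit 0x800000000)
 (Net.cons 6 (nat_lit 0x20000000030)
 (Net.cons 3 (nat_lit 0x6106080180)
 (Net.cons 1 (nat_lit 0x1208201040)
 (Net.cons 1 (nat_lit 0x12412480490)
 (Net.cons 1 (nat_lit 0x1208040040)
 (Net.cons 3 (nat_lit 0x6106140180)
 (Net.cons 6 (nat_lit 0x20000000030)
 (Net.cons 12 (nat_lit 0x800000000)
 Net.nil)))))))))

noncomputable def MubH1_lb_n_75 : Net :=
 (Net.cons 12 (nat_lit 0x800000000)
 (Net.cons 6 (nat_lit 0x20000000000)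
 (Net.cons 3 (nat_lit 0x4000100000)
 (Net.cons 1 (nat_lit 0x9040241000)
 (Net.cons 1 (nat_lit 0x2010400400)
 (Net.cons 1 (nat_lit 0x1000200000)
 (Net.cons 3 (nat_lit 0x4000100000)
 (Net.cons 6 (nat_lit 0x20000000000)
 (Net.cons 12 (nat_lit 0x800000000)
 Net.nil)))))))))

noncomputable def MubH1_lb_n_76 : Net :=
 (Net.cons 12 (nat_lit 0x800000000)
 (Net.cons 6 (nat_lit 0x20000000030)
 (Net.cons 3 (nat_lit 0x4006186180)
 (Net.cons 1 (nat_lit 0x9048208040)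
 (Net.cons 1 (nat_lit 0x2012492490)
 (Net.cons 1 (nat_lit 0x1008208040)
 (Net.cons 3 (nat_lit 0x4006186180)
 (Net.cons 6 (nat_lit 0x20000000030)
 (Net.cons 12 (nat_lit 0x800000000)
 Net.nil)))))))))

noncomputable def MubH1_lb_n_77 : Net :=
 (Net.cons 3 (nat_lit 0x100000000)
 (Net.cons 1 (nat_lit 0x201041000)
 (Net.cons 1 (nat_lit 0x410410400)
 (Net.cons 1 (nat_lit 0x200000000)
 (Net.cons 3 (nat_lit 0x100000000)
 Net.nil)))))

noncomputable def MubH1_lb_n_78 : Net :=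
 (Net.cons 6 (nat_lit 0x20)
 (Net.cons 3 (nat_lit 0x104000180)
 (Net.cons 1 (nat_lit 0x8248000040)
 (Net.cons 1 (nat_lit 0x2410400480)
 (Net.cons 1 (nat_lit 0x208000040)
 (Net.cons 3 (nat_lit 0x104000180)
 (Net.cons 6 (nat_lit 0x20)
 Net.nil)))))))

noncomputable def MubH1_lb_n_79 : Net :=
 (Net.cons 12 (nat_lit 0x800000000)
 (Net.cons 6 (nat_lit 0x20000000020)
 (Net.cons 3 (nat_lit 0x6004100180)
 (Net.cons 1 (nat_lit 0x1009200040)
 (Net.cons 1 (nat_lit 0x12010410480)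
 (Net.cons 1 (nat_lit 0x1008200040)
 (Net.cons 3 (nat_lit 0x6004100180)
 (Net.cons 6 (nat_lit 0x20000000020)
 (Net.cons 12 (nat_lit 0x800000000)
 Net.nil)))))))))

noncomputable def MubH1_lb_n_80 : Net :=
 (Net.cons 3 (nat_lit 0x100002000)
 (Net.cons 1 (nat_lit 0x8240048000)
 (Net.cons 1 (nat_lit 0x2400012000)
 (Net.cons 1 (nat_lit 0x200001000)
 (Net.cons 3 (nat_lit 0x100005000)
 Net.nil)))))

noncomputable def MubH1_lb_n_81 : Net :=
 (Net.cons 12 (nat_lit 0x800000000)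
 (Net.cons 6 (nat_lit 0x20000000020)
 (Net.cons 3 (nat_lit 0x6000004180)
 (Net.cons 1 (nat_lit 0x1040009040)
 (Net.cons 1 (nat_lit 0x12010010480)
 (Net.cons 1 (nat_lit 0x1000008040)
 (Net.cons 3 (nat_lit 0x6000004180)
 (Net.cons 6 (nat_lit 0x20000000020)
 (Net.cons 12 (nat_lit 0x800000000)
 Net.nil)))))))))

noncomputable def MubH1_lb_n_82 : Net :=
 (Net.cons 3 (nat_lit 0x102100000)
 (Net.cons 1 (nat_lit 0x8208240000)
 (Net.cons 1 (nat_lit 0x2412400000)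
 (Net.cons 1 (nat_lit 0x201200000)
 (Net.cons 3 (nat_lit 0x105100000)
 Net.nil)))))

noncomputable def MubH1_lb_n : List Net := (apd [Net.nil,
 MubH1_lb_n_1,
 Net.rev MubH1_lb_n_1,
 MubH1_lb_n_3,
 MubH1_lb_n_4,
 MubH1_lb_n_5,
 MubH1_lb_n_6,
 Net.nil,
 MubH1_lb_n_8,
 Net.nil,
 MubH1_lb_n_10,
 Net.rev MubH1_lb_n_10,
 Net.nil,
 Net.nil,
 Net.nil,
 Net.nil,
 Net.nil,
 Net.nil,
 Net.nil,
 Net.nil,
 Net.nil,
 Net.nil,
 Net.nil,
 Net.nil,
 Net.nil,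
 Net.nil,
 Net.nil,
 Net.nil,
 Net.nil,
 Net.nil,
 Net.nil,
 Net.nil,
 Net.nil,
 Net.nil,
 Net.nil,
 Net.nil,
 Net.nil,
 Net.nil,
 Net.nil,
 Net.nil]
 (apd [Net.nil,
 Net.nil,
 Net.nil,
 Net.nil,
 Net.nil,
 Net.nil,
 Net.nil,
 Net.nil,
 Net.nil,
 Net.nil,
 Net.nil,
 Net.nil,
 Net.nil,
 Net.nil,
 Net.nil,
 Net.nil,
 Net.nil,
 Net.nil,
 Net.nil,
 Net.nil,
 Net.nil,
 Net.nil,
 Net.nil,
 Net.nil,
 MubH1_lb_n_64,
 Net.rev MubH1_lb_n_64,
 MubH1_lb_n_66,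
 Net.rev MubH1_lb_n_66,
 MubH1_lb_n_68,
 MubH1_lb_n_69,
 MubH1_lb_n_70,
 MubH1_lb_n_71,
 Net.rev MubH1_lb_n_71,
 MubH1_lb_n_73,
 MubH1_lb_n_74,
 MubH1_lb_n_75,
 MubH1_lb_n_76,
 MubH1_lb_n_77,
 MubH1_lb_n_78,
 MubH1_lb_n_79]
 [MubH1_lb_n_80,
 MubH1_lb_n_81,
 MubH1_lb_n_82]))

theorem MubH1_lb_n_ok : NetsOK 48 MubH1_lb_n := netsOK_of (by decide +kernel)

theorem MubH1_lb : 10321920 ≤ Nat.card (cl (gp nets) [1,2,3,4,5,6,8,10,11]) :=
  lb_of_itwB (k := 6) (n := 42) nets_ok MubH1_lb_n_ok (by norm_num) (by norm_num) (tbA_pt nets_ok) (tbA_pt MubH1_lb_n_ok) (φ := look2 (nat_lit 0x841007ad0067200828005b2007920064f00817005c20082f006240075b0085e005d20065000791006440077d005f00076a006430077e00816005a50085000599007320062800671007ae00750006090075c005b1008290059a00851007a00065800623005a600583) 20 64) (by decide +kernel) (by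
    rw [← cl_eq_of_slpB (k := 6) (D := [(64,[8,1,6,10,8,3,1]),
 (65,[2,3,8,11,6,2,8]),
 (66,[4,65,11,65,65,4,11,65]),
 (67,[64,10,4,64,64,10,64,4]),
 (68,[64,64]),
 (69,[4,65,4,64,4]),
 (70,[68,66,68,67]),
 (71,[67,68,11,69]),
 (72,[69,10,68,66]),
 (73,[69,66,69,66]),
 (74,[11,72]),
 (75,[10,71,70]),
 (76,[10,70,71]),
 (77,[11,73,10]),
 (78,[74,75]),
 (79,[77,74]),
 (80,[76,74]),
 (81,[79,73]),
 (82,[80,73])]) MubH1_lb_n_ok (by norm_num) (by decide +kernel)]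
    exact lb_of_chainB MubH1_lb_n_ok (C := [([4,10,11,64,65,66,67,68,69,70,71,72,73,74,75,76,77,78,79,80,81,82],[1,3,8,64,1,68,10,1],0,0,42),
 ([10,11,66,67,68,69,70,71,72,73,74,75,76,77,78,79,80,81,82],[4,64,10,66,64,68,4,10],1,1,40),
 ([10,11,70,71,72,73,74,75,76,77,78,79,80,81,82],[66,68,69,10,66,68,10],2,2,32),
 ([73,74,75,76,77,78,79,80,81,82],[10,10,70,10],3,3,6),
 ([73,78,79,80,81,82],[74],10,10,2),
 ([78,81,82],[73],16,16,2),
 ([78,82],[81],12,12,2),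
 ([82],[78],22,22,2),
 ([],[82],28,28,2)]) (by decide +kernel))

theorem Mub_mb : MB (cl (gp nets) L) 3 1 :=
  mb_one (w := 12) (n := 56) (La := L) (ix := nth 0 [0,0,0,0,1,7,12,18,24,33,0,0,43]) (by norm_num) (by norm_num) (nets_iv.sval _) (nets_rel.sval fun r hr x hx => mem_cl (sub_of_allR (by decide +kernel) r hr x hx)) (by decide +kernel)
    (TStep.trans (TStep.trans (TStep.trans (TStep.trans (TStep.trans (TStep.trans (TStep.trans (TStep.trans (TStep.trans (TStep.trans (TStep.trans (TStep.trans (TStep.trans (TStep.trans (TStep.trans (TStep.trans (TStep.repar (k' := 46) (by norm_num) (by norm_num) (by decide +kernel) (by decide +kernel) Mub1_b)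
    (TStep.enum0 (by norm_num) (by norm_num) Mub2_0 (Gs := Mub2G) (by decide +kernel)))
    (TStep.repar (k' := 41) (by norm_num) (by norm_num) (by decide +kernel) (by decide +kernel) Mub3_b))
    (TStep.enum0 (by norm_num) (by norm_num) Mub4_0 (Gs := Mub4G) (by decide +kernel)))
    (TStep.repar (k' := 37) (by norm_num) (by norm_num) (by decide +kernel) (by decide +kernel) Mub5_b))
    (TStep.enum0 (by norm_num) (by norm_num) Mub6_0 (Gs := Mub6G) (by decide +kernel)))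
    (TStep.repar (k' := 32) (by norm_num) (by norm_num) (by decide +kernel) (by decide +kernel) Mub7_b))
    (TStep.enum0 (by norm_num) (by norm_num) Mub8_0 (Gs := Mub8G) (by decide +kernel)))
    (TStep.repar (k' := 28) (by norm_num) (by norm_num) (by decide +kernel) (by decide +kernel) Mub9_b))
    (TStep.enum0 (by norm_num) (by norm_num) Mub10_0 (Gs := Mub10G) (by decide +kernel)))
    (TStep.repar (k' := 21) (by norm_num) (by norm_num) (by decide +kernel) (by decide +kernel) Mub11_b))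
    (TStep.enum0 (by norm_num) (by norm_num) Mub12_0 (Gs := Mub12G) (by decide +kernel)))
    (TStep.repar (k' := 5) (by norm_num) (by norm_num) (by decide +kernel) (by decide +kernel) Mub13_b))
    (TStep.enum (by norm_num) (by norm_num) Mub14_0 (I := [0,1,2,3,4,5,6,24,25,26,29,31,54]) (by decide +kernel) (by decide +kernel) MubH0_0_ord (c := 2) (lb_sval (fun _ hx => mem_cl (sub_of_subB (by decide +kernel) _ hx)) MubH0_lb (by norm_num)) (Gs := Mub14G) (by decide +kernel)))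
    (TStep.repar (k' := 2) (by norm_num) (by norm_num) (by decide +kernel) (by decide +kernel) Mub15_b))
    (TStep.enum (by norm_num) (by norm_num) Mub16_0 (I := [0,1,2,3,4,5,6,7,8,9,10,11,12,13,14,15,16,17,24,25,26,27,29,30,31,44,46,47,54,55]) (by decide +kernel) (by decide +kernel) MubH1_0_ord (c := 2) (lb_sval (fun _ hx => mem_cl (sub_of_subB (by decide +kernel) _ hx)) MubH1_lb (by norm_num)) (Gs := Mub16G) (by decide +kernel)))
    (TStep.repar (k' := 0) (by norm_num) (by norm_num) (by decide +kernel) (by decide +kernel) Mub17_b))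
    (L := [1,2,3,4,5,6,7,8,9,10,11,12]) (I := [0,1,2,3,4,5,6,7,8,9,10,11,12,13,14,15,16,17,18,19,20,21,22,23,24,25,26,27,28,29,30,31,32,33,34,35,36,37,38,39,40,41,42,43,44,45,46,47,48,49,50,51,52,53,54,55]) (by decide +kernel) (by decide +kernel) ord card.ge (cl_sval_top _ _)

end Cfsg.Lib.Comp.Co2z
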