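import Cfsg.Agent.Lib.Comp.Co2z.Base

set_option maxRecDepth 100000
set_option Elab.async false

namespace Cfsg.Lib.Comp.Co2z

universe u

noncomputable def MubH0_0_R : List (List ℕ × ℕ) := [([3],1),
 ([4],1),
 ([1],2),
 ([3,4],1),
 ([1,3],2),
 ([1,4],2),
 ([1,4,2,3],1),
 ([8],1),
 ([3,8],1),
 ([4,8],1),
 ([1,8],2),
 ([1,8,2,4],1),
 ([1,2],0)]

noncomputable def MubH0_0_n_1 : Net :=
 (Net.cons 2 (nat_lit 0x2)
 (Net.cons 1 (nat_lit 0x14)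
 (Net.cons 2 (nat_lit 0x10)
 Net.nil)))

noncomputable def MubH0_0_n_3 : Net :=
 (Net.cons 4 (nat_lit 0xc)
 (Net.cons 2 (nat_lit 0x30)
 (Net.cons 4 (nat_lit 0xc)
 Net.nil)))

noncomputable def MubH0_0_n_8 : Net :=
 (Net.cons 1 (nat_lit 0x55)
 Net.nil)

noncomputable def MubH0_0_n : List Net := [Net.nil,
 MubH0_0_n_1,
 Net.rev MubH0_0_n_1,
 MubH0_0_n_3,
 Net.nil,
 Net.nil,
 Net.nil,
 Net.nil,
 MubH0_0_n_8]

theorem MubH0_0_n_ok : NetsOK 8 MubH0_0_n := netsOK_of (by decide +kernel)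

theorem MubH0_0_n_rel : Rels (gp MubH0_0_n) MubH0_0_R := rels_of_relsB (k := 3) MubH0_0_n_ok (by norm_num) (by decide +kernel)

theorem MubH0_0_fin : finB 8 MubH0_0_n [1,2,3,4,8] 8 (runH 8 MubH0_0_n (fun x p => ptInv (nth Net.nil MubH0_0_n x) p) iv MubH0_0_R [] ([1,2,3,4].map fun x => [x]) 0 []
  [1,5,9,13,0,28,32,36,48,8,16,40,44,48,8,12,16,20,28,32,36,40,44,48,36]
  (defsH 8 MubH0_0_n (ones 104) [8,1,2,3,1,8] (Nat.shiftLeft 1 0) 0)) = true := by decide +kernel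

theorem MubH0_0_idx : Idx.{u} iv (MubH0_0_R ++ []) ([1,2,3,4].map fun x => [x]) [1,2,3,4,8] 8 :=
  Reach.idx MubH0_0_n_ok (reach_runH MubH0_0_n_ok (fun x p _ => ptInv_gp MubH0_0_n_ok x p) MubH0_0_n_rel (reach_defsH MubH0_0_n_ok _ _ _ _ _ _) _ _) MubH0_0_fin (by norm_num)

end Cfsg.Lib.Comp.Co2z
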